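import Groth.Agent.L13.PowReg.Sheaf
import Groth.Agent.L13.ProjDual.Mul
import Groth.Agent.L22.Reg.Lin

/-!
Uniform regularity of powers of an ideal sheaf generated by forms of one degree.
-/

set_option autoImplicit false
set_option backward.isDefEq.respectTransparency false
set_option backward.isDefEq.respectTransparency.types false
set_option linter.unusedSectionVars false

universe u

open CategoryTheory CategoryTheory.Limits AlgebraicGeometry TopologicalSpace Opposite

noncomputable section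

namespace Groth.L13.PowReg

open Groth.L22.SyzTilde (S G PS Fr pr matHom)
open Groth.L22.Reg (Regular tw' O' subsingleton_of_exact subsingleton_iso)
open Groth.L16 (CohLinear.exact_hmap_delta)

variable {k : Type u} [Field k] {r : ℕ}

local notation "𝔓" => CohB1.polyGrading r k

theorem exists_mem_basicOpen (x : ProjectiveSpectrum 𝔓) :
    ∃ a : Fin (r + 1), MvPolynomial.X a ∉ x.asHomogeneousIdeal := by
  obtain ⟨a, ha⟩ := Groth.L16.ProjSpace.exists_mem_basicOpen_X r k x
  exact ⟨a, (Proj.mem_basicOpen _ _ _).1 ha⟩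

/-- A subsheaf of `O` with the stalks of the image of `f` is that image. -/
theorem nonempty_image_iso {X : Scheme.{u}} {F M : X.Modules} (f : F ⟶ Coh.structureModule X)
    (m : M ⟶ Coh.structureModule X) [Mono m]
    (h : ∀ (x : X) (v : (Coh.structureModule X).presheaf.stalk x),
      (∃ z, Groth.L21.RR.st f x z = v) ↔ ∃ u, Groth.L21.RR.st m x u = v) :
    Nonempty (image f ≅ M) := by
  have h0 : f ≫ cokernel.π m = 0 := by
    refine Groth.L21.Mod.hom_ext_stalk fun x => ?_
    rw [Functor.map_comp]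
    ext z
    obtain ⟨U, hx, s, rfl⟩ := TopCat.Presheaf.exists_germ_eq (F := F.presheaf) (x := x) z
    obtain ⟨w, hw⟩ := (h x _).1 ⟨F.presheaf.germ U x hx s, rfl⟩
    obtain ⟨V, hxV, t, rfl⟩ := TopCat.Presheaf.exists_germ_eq (F := M.presheaf) (x := x) w
    rw [Groth.L21.RR.st_germ, Groth.L21.RR.st_germ] at hw
    have e1 := Groth.L21.Mod.stalkF_map_germ f U x hx s
    have e2 := Groth.L21.Mod.stalkF_map_germ m V x hxV t
    show (Groth.L21.Mod.stalkF X x).map (cokernel.π m) ((Groth.L21.Mod.stalkF X x).map f _) = _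
    erw [e1, ← hw, ← e2]
    refine (ConcreteCategory.congr_hom ((Groth.L21.Mod.stalkF X x).map_comp m (cokernel.π m)).symm _).trans ?_
    rw [cokernel.condition, Functor.map_zero, Functor.map_zero]
    rfl
  let g : F ⟶ M := Abelian.monoLift m f h0
  have hg : g ≫ m = f := Abelian.monoLift_comp m f h0
  haveI : Epi g := by
    rw [Groth.L21.Mod.epi_iff_stalk_surjective]
    intro x u
    obtain ⟨U, hxU, t, rfl⟩ := TopCat.Presheaf.exists_germ_eq (F := M.presheaf) (x := x) u
    obtain ⟨z, hz⟩ := (h x _).2 ⟨M.presheaf.germ U x hxU t, rfl⟩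
    refine ⟨z, (Groth.L21.Mod.mono_iff_stalk_injective m).1 inferInstance x ?_⟩
    refine (ConcreteCategory.congr_hom ((Groth.L21.Mod.stalkF X x).map_comp g m).symm z).trans ?_
    rw [hg]
    obtain ⟨V, hxV, s, rfl⟩ := TopCat.Presheaf.exists_germ_eq (F := F.presheaf) (x := x) z
    rw [Groth.L21.RR.st_germ, Groth.L21.RR.st_germ] at hz
    exact (Groth.L21.Mod.stalkF_map_germ f V x hxV s).trans
      (hz.trans (Groth.L21.Mod.stalkF_map_germ m U x hxU t).symm)
  haveI : StrongEpi g := strongEpi_of_epi g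
  exact ⟨(image.isoStrongEpiMono g m hg).symm⟩

theorem isCoh_image {A B : (PS r k).Modules} (hA : Coh.IsCoh A) (hB : Coh.IsCoh B) (f : A ⟶ B) :
    Coh.IsCoh (image f) := by
  haveI : IsLocallyNoetherian (PS r k) := inferInstanceAs (IsLocallyNoetherian (CohB1.ProjSpace r k))
  exact Groth.L16.CohSupport.isCoh_of_iso (Abelian.imageIsoImage f)
    (Groth.L16.CohKernel.isCoh_kernel_cokernel hB
      (Groth.L16.CohKernel.isCoh_kernel_cokernel hA hB f).2 (cokernel.π f)).1

/-- Regularity of the first image from bounds on the first terms of a long exact complex. -/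
theorem regular_image {m : ℤ} (F : ℕ → (PS r k).Modules) {O : (PS r k).Modules} (hO : Coh.IsCoh O)
    (hF : ∀ i, Coh.IsCoh (F i)) (hreg : ∀ i, i ≤ r + 1 → Regular (F i) (m + i))
    (o : F 0 ⟶ O) (dd : ∀ i, F (i + 1) ⟶ F i)
    (w0 : dd 0 ≫ o = 0) (h0 : (ShortComplex.mk (dd 0) o w0).Exact)
    (w : ∀ i, dd (i + 1) ≫ dd i = 0) (h : ∀ i, (ShortComplex.mk (dd (i + 1)) (dd i) (w i)).Exact) :
    Regular (image o) m := by
  have ses : ∀ {A B C : (PS r k).Modules} (f : A ⟶ B) (g : B ⟶ C) (wf : f ≫ g = 0),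
      (ShortComplex.mk f g wf).Exact →
      ∃ (w' : image.ι f ≫ factorThruImage g = 0),
        (ShortComplex.mk (image.ι f) (factorThruImage g) w').ShortExact := by
    intro A B C f g wf hfg
    have w' : image.ι f ≫ factorThruImage g = 0 := by
      rw [← cancel_epi (factorThruImage f), ← cancel_mono (image.ι g), image.fac_assoc, comp_zero, zero_comp,
        Category.assoc, image.fac, wf]
    refine ⟨w', ShortComplex.ShortExact.mk' ?_ inferInstance inferInstance⟩
    rw [Groth.L21.Mod.exact_iff_stalk]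
    intro x
    rw [ShortComplex.ab_exact_iff]
    intro z hz
    change (Groth.L21.Mod.stalkF (PS r k) x).map (factorThruImage g) z = 0 at hz
    have hgz : (Groth.L21.Mod.stalkF (PS r k) x).map g z = 0 := by
      rw [← image.fac g, Functor.map_comp, CategoryTheory.comp_apply, hz, map_zero]
    obtain ⟨y, hy⟩ := (ShortComplex.ab_exact_iff _).1 ((Groth.L21.Mod.exact_iff_stalk _).1 hfg x) z hgz
    refine ⟨(Groth.L21.Mod.stalkF (PS r k) x).map (factorThruImage f) y, ?_⟩
    show (Groth.L21.Mod.stalkF (PS r k) x).map (image.ι f) _ = z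
    rw [← CategoryTheory.comp_apply, ← Functor.map_comp, image.fac]
    exact hy
  let B : ℕ → (PS r k).Modules
    | 0 => image o
    | i + 1 => image (dd i)
  have hB : ∀ i, Coh.IsCoh (B i) := fun i => match i with
    | 0 => isCoh_image (hF 0) hO o
    | i + 1 => isCoh_image (hF _) (hF _) _
  have hS : ∀ i, ∃ (a : B (i + 1) ⟶ F i) (b : F i ⟶ B i) (wab : a ≫ b = 0),
      (ShortComplex.mk a b wab).ShortExact := fun i => match i with
    | 0 => by
      obtain ⟨w', h'⟩ := ses (dd 0) o w0 h0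
      exact ⟨_, _, w', h'⟩
    | i + 1 => by
      obtain ⟨w', h'⟩ := ses (dd (i + 1)) (dd i) (w i) (h i)
      exact ⟨_, _, w', h'⟩
  suffices H : ∀ (j i q : ℕ), r < q + j → 1 ≤ q → i + j ≤ r + 1 →
      Subsingleton (Coh.HH (CohB1.ProjSpace r k) (tw' (B i) (m + i - q)) q) by
    intro q hq
    simpa using H (r + 1) 0 q (by omega) hq (by omega)
  intro j
  induction j with
  | zero =>
    intro i q hq _ _
    haveI := (hB i).1
    haveI := Groth.L22.Reg.isQCoh_tw (B i) (m + i - q)
    exact Groth.L16.ProjSpace.subsingleton_HH_of_lt r k _ q (by omega)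
  | succ j ih =>
    intro i q hq hq1 hij
    obtain ⟨a, b, wab, hab⟩ := hS i
    refine subsingleton_of_exact
      (Groth.L16.CohLinear.exact_hmap_delta (Groth.L22.Reg.shortExact_tw hab (m + i - q)) q)
      ((hreg i (by omega)).subsingleton hq1 le_rfl) ?_ (map_zero _)
    have := ih (i + 1) (q + 1) (by omega) (by omega) (by omega)
    rwa [show m + ((i + 1 : ℕ) : ℤ) - ((q + 1 : ℕ) : ℤ) = m + i - q by omega] at this

variable {s : ℕ}

/-- Powers of an ideal sheaf cut out by forms of degree `D` are `(Dp + e)`-regular. -/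
theorem exists_bound (I : (CohB1.ProjSpace r k).IdealSheafData) (D : ℕ) (g : Fin s → S r k)
    (hg : ∀ i, g i ∈ G r k (D : ℤ))
    (hI : ∀ (x : PS r k) (v : (Coh.structureModule (PS r k)).presheaf.stalk x),
      (∃ z, Groth.L21.RR.st (rowHom (deg := fun _ => (D : ℤ)) g hg) x z = v) ↔
        ∃ u, Groth.L21.RR.st (ClSub.idealModι I) x u = v) :
    ∃ e : ℤ, ∀ p : ℕ, ∀ m : ℤ, D * (p : ℤ) + e ≤ m → Regular (n := r) (R := k) (ClSub.idealMod (I ^ p)) m := by
  classical
  obtain ⟨e, he⟩ := exists_family D g hg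
  refine ⟨e, fun p m hm => ?_⟩
  obtain ⟨rk, deg, row, DD, hrow, hDD, hex0, hex, hdeg, hrange, hbd⟩ := he p
  obtain ⟨w0, h0⟩ := matHom_exact (deg := one0) (fun _ b => row b) (fun _ b => by simpa using hrow b)
    (DD 0) (hDD 0) (by
      ext v
      rw [LinearMap.mem_ker, ← hex0 v, funext_iff]
      exact ⟨fun h => h 0, fun h _ => h⟩)
  have w0' : matHom (DD 0) (hDD 0) ≫ rowHom row hrow = 0 := by
    rw [rowHom, ← Category.assoc, w0, zero_comp]
  have h0' : (ShortComplex.mk (matHom (DD 0) (hDD 0)) (rowHom row hrow) w0').Exact := by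
    refine (ShortComplex.exact_iff_of_iso (ShortComplex.isoMk
      (S₁ := ShortComplex.mk _ _ w0) (S₂ := ShortComplex.mk _ _ w0')
      (Iso.refl _) (Iso.refl _) unitIso ?_ ?_)).1 h0
    · simp
    · simp [rowHom]
  choose w hw using fun i => matHom_exact (DD i) (hDD i) (DD (i + 1)) (hDD (i + 1)) (hex i)
  haveI : IsLocallyNoetherian (PS r k) := inferInstanceAs (IsLocallyNoetherian (CohB1.ProjSpace r k))
  have hcohO : Coh.IsCoh (Coh.structureModule (PS r k)) := Groth.L16.CohSupport.isCoh_of_iso unitIso (Groth.L22.SyzTilde.isCoh_Fr one0)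
  have hreg : Regular (image (rowHom row hrow)) m :=
    regular_image (fun i => Fr (deg i)) hcohO (fun i => Groth.L22.SyzTilde.isCoh_Fr _)
      (fun i hi => Groth.L22.SyzTilde.regular_Fr fun b => by have := hbd i hi b; omega)
      _ (fun i => matHom (DD i) (hDD i)) w0' h0' w hw
  haveI : Mono (ClSub.idealModι (I ^ p)) := inferInstanceAs (Mono (kernel.ι _))
  obtain ⟨iso⟩ := nonempty_image_iso (rowHom row hrow) (ClSub.idealModι (I ^ p)) fun x v => by
    obtain ⟨a, ha⟩ := exists_mem_basicOpen (x : ProjectiveSpectrum 𝔓)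
    have hmem : ∀ i, g i ∈ CohB1.polyGrading r k D := fun i => Groth.L22.SyzTilde.mem_G_cast.1 (hg i)
    have hpow : (MvPolynomial.X a ^ D : S r k) ∈ CohB1.polyGrading r k D := by
      have := SetLike.pow_mem_graded D (Groth.L16.ProjSpace.X_mem r k a)
      rwa [smul_eq_mul, mul_one] at this
    choose γ hγ using fun i => exists_phi_eq (x : ProjectiveSpectrum 𝔓) ⟨g i, hmem i⟩ ⟨_, hpow⟩
      (fun h => ha ((x : ProjectiveSpectrum 𝔓).isPrime.mem_of_pow_mem _ h))
    obtain ⟨U, hU, hxU, -⟩ := exists_isAffineOpen_mem_and_subset (x := x) (U := (⊤ : (PS r k).Opens)) trivial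
    have h1 : ∀ w : (Coh.structureModule (PS r k)).presheaf.stalk x,
        (∃ t ∈ Ideal.span (Set.range γ), t • Groth.L21.RR.one (PS r k) x = w) ↔
          ∃ t ∈ (I.ideal ⟨U, hU⟩).map ((PS r k).presheaf.germ U x hxU).hom,
            t • Groth.L21.RR.one (PS r k) x = w := fun w => by
      refine Iff.trans ?_ (((hI x w).trans (Groth.L21.RR.range_st_idealModι I hU hxU w)))
      rw [range_rowHom D g g hg 1 (fun _ => by simp) ?_ x ha γ hγ, pow_one]
      ext f
      constructor
      · rintro ⟨i, rfl⟩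
        exact ⟨Finsupp.single i 1, Finsupp.degree_single _ _, by simp⟩
      · rintro ⟨β, hβ, rfl⟩
        obtain ⟨i, rfl⟩ := Finsupp.range_single_one.ge hβ
        exact ⟨i, by simp⟩
    have h2 : Ideal.span (Set.range γ) = (I.ideal ⟨U, hU⟩).map ((PS r k).presheaf.germ U x hxU).hom := by
      ext t
      have := h1 (t • Groth.L21.RR.one (PS r k) x)
      constructor <;> intro ht
      · obtain ⟨t', ht', e⟩ := this.1 ⟨t, ht, rfl⟩
        exact (Groth.L21.RR.bijective_smul_one (X := PS r k) x).1 e ▸ ht'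
      · obtain ⟨t', ht', e⟩ := this.2 ⟨t, ht, rfl⟩
        exact (Groth.L21.RR.bijective_smul_one (X := PS r k) x).1 e ▸ ht'
    refine (range_rowHom D g row hrow p hdeg hrange x ha γ hγ v).trans
      (Iff.trans ?_ (Groth.L21.RR.range_st_idealModι (I ^ p) hU hxU v).symm)
    rw [h2, ← Ideal.map_pow]
    simp only [Scheme.IdealSheafData.ideal_pow, Pi.pow_apply]
    exact Iff.rfl
  intro q hq
  exact Groth.L22.Reg.subsingleton_iso (Groth.L00.Tensor.tensorIso iso (Iso.refl _)) q (hreg q hq)

/-- Generation of the twist gives forms cutting out the ideal. -/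
theorem exists_forms (I : (CohB1.ProjSpace r k).IdealSheafData) (d : ℤ)
    (hd : Curv2.IsGloballyGenerated (CohB1.tensorMod (ClSub.idealMod I) (Twist.twistProjSpace r k d))) :
    ∃ (b : ℕ) (h : (∐ fun _ : Fin b => O' r k (-d)) ⟶ O' r k 0) (e : O' r k 0 ≅ Coh.structureModule (CohB1.ProjSpace r k))
      (π : (∐ fun _ : Fin b => O' r k (-d)) ⟶ ClSub.idealMod I),
      Epi π ∧ π ≫ ClSub.idealModι I = h ≫ e.hom := by
  haveI : IsLocallyNoetherian (CohB1.ProjSpace r k) := inferInstance
  have hcoh : Coh.IsCoh (CohB1.tensorMod (ClSub.idealMod I) (Twist.twistProjSpace r k d)) :=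
    Groth.L03.Euler.isCoh_tensor (Groth.L16.ProjTwist.isInvertible_twistProjSpace r k d) (by
      haveI : IsLocallyNoetherian (PS r k) := inferInstanceAs (IsLocallyNoetherian (CohB1.ProjSpace r k))
      have hO : Coh.IsCoh (Coh.structureModule (PS r k)) :=
        Groth.L16.CohSupport.isCoh_of_iso unitIso (Groth.L22.SyzTilde.isCoh_Fr one0)
      exact Groth.L18.IdealModule.isCoh_idealMod I fun U => by
        haveI : IsNoetherianRing Γ(CohB1.ProjSpace r k, U.1) := IsLocallyNoetherian.component_noetherian U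
        exact IsNoetherian.noetherian _)
  obtain ⟨b, p, hp, -⟩ := Groth.L22.Reg.exists_epi_free hcoh hd
  obtain ⟨e1⟩ := Groth.L22.Reg.nonempty_tensor_sigma (n := r)
    (fun _ : Fin b => Coh.structureModule (CohB1.ProjSpace r k)) (O' r k (-d))
  obtain ⟨e2⟩ := Groth.L22.Reg.nonempty_tw_tw (ClSub.idealMod I) (show d + -d = 0 by omega)
  obtain ⟨e3⟩ := Groth.L22.Reg.nonempty_tw_zero (ClSub.idealMod I)
  obtain ⟨e0⟩ := Groth.L22.Reg.nonempty_O_zero r k
  haveI := Groth.L00.Tensor.preservesColimits_tensorRightF (O' r k (-d))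
  let π : (∐ fun _ : Fin b => O' r k (-d)) ⟶ ClSub.idealMod I :=
    (Sigma.mapIso fun _ : Fin b => (Groth.L00.Tensor.tensorUnitLeft (O' r k (-d))).symm).hom ≫ e1.inv ≫
      (Groth.L00.Tensor.tensorRightF (O' r k (-d))).map p ≫ e2.hom ≫ e3.hom
  haveI : Epi ((Groth.L00.Tensor.tensorRightF (O' r k (-d))).map p) := inferInstance
  exact ⟨b, π ≫ ClSub.idealModι I ≫ e0.inv, e0, π, inferInstance, by simp⟩

/-- The main bound. -/
theorem exists_regular_bound (I : (CohB1.ProjSpace r k).IdealSheafData) (d : ℤ)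
    (hd : Curv2.IsGloballyGenerated (CohB1.tensorMod (ClSub.idealMod I) (Twist.twistProjSpace r k d))) :
    ∃ e : ℤ, ∀ p : ℕ, 1 ≤ p → ∀ m : ℤ, d * (p : ℤ) + e ≤ m →
      Curv2.IsMRegular k r (ClSub.idealMod (I ^ p)) m := by
  rcases Nat.eq_zero_or_pos r with hr | hr
  · exact ⟨0, fun p _ m _ i hi hi' => absurd hi' (by omega)⟩
  obtain ⟨b, h, e0, π, hπ, hfac⟩ := exists_forms I d hd
  rcases lt_or_ge d 0 with hneg | hpos
  · have h0 : h = 0 := by
      refine Sigma.hom_ext _ _ fun j => ?_
      rw [comp_zero]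
      exact Groth.L13.ProjDual.eq_zero_of_lt hr (by omega) _
    have hι : ClSub.idealModι I = 0 := by
      rw [← cancel_epi π, hfac, h0, zero_comp, comp_zero]
    refine ⟨0, fun p hp m _ i hi _ => ?_⟩
    haveI : Mono (ClSub.idealModι (I ^ p)) := inferInstanceAs (Mono (kernel.ι _))
    have hz : IsZero (ClSub.idealMod (I ^ p)) := by
      refine IsZero.of_mono_eq_zero (ClSub.idealModι (I ^ p)) (Groth.L21.Mod.hom_ext_stalk fun x => ?_)
      ext z
      obtain ⟨W, hxW, t, rfl⟩ := TopCat.Presheaf.exists_germ_eq (F := (ClSub.idealMod (I ^ p)).presheaf) (x := x) z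
      obtain ⟨U, hU, hxU, -⟩ := exists_isAffineOpen_mem_and_subset (x := x)
        (U := (⊤ : (CohB1.ProjSpace r k).Opens)) trivial
      have hbot : (I.ideal ⟨U, hU⟩).map ((CohB1.ProjSpace r k).presheaf.germ U x hxU).hom = ⊥ := by
        rw [eq_bot_iff]
        intro c hc
        obtain ⟨v, hv⟩ := (Groth.L21.RR.range_st_idealModι I hU hxU _).2 ⟨c, hc, rfl⟩
        rw [hι] at hv
        refine (Ideal.mem_bot).2 ((Groth.L21.RR.bijective_smul_one x).1 ?_)
        show c • _ = (0 : (CohB1.ProjSpace r k).presheaf.stalk x) • Groth.L21.RR.one _ x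
        rw [← hv, zero_smul, Groth.L21.RR.st, Functor.map_zero]
        rfl
      obtain ⟨c, hc, hcv⟩ := (Groth.L21.RR.range_st_idealModι (I ^ p) hU hxU _).1
        ⟨(ClSub.idealMod (I ^ p)).presheaf.germ W x hxW t, rfl⟩
      simp only [Scheme.IdealSheafData.ideal_pow, Pi.pow_apply, Ideal.map_pow, hbot] at hc
      rw [← Ideal.zero_eq_bot, zero_pow (by omega), Ideal.zero_eq_bot, Ideal.mem_bot] at hc
      rw [hc, zero_smul, Groth.L21.RR.st_germ] at hcv
      refine ((Groth.L21.Mod.stalkF_map_germ _ W x hxW t).trans hcv.symm).trans ?_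
      rw [Functor.map_zero]
      rfl
    haveI := Groth.L00.Tensor.preservesColimits_tensorRightF (Twist.twistProjSpace r k (m - i))
    exact Groth.L03.Euler.subsingleton_HH_of_isZero
      ((Groth.L00.Tensor.tensorRightF (Twist.twistProjSpace r k (m - i))).map_isZero hz) i
  · obtain ⟨D, rfl⟩ := Int.eq_ofNat_of_zero_le hpos
    choose P hP using fun j => Groth.L13.ProjDual.exists_eq_mulHom (k := D) (show -(D : ℤ) + (D : ℤ) = 0 by omega)
      (Sigma.ι (fun _ : Fin b => O' r k (-(D : ℤ))) j ≫ h)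
    let g : Fin b → S r k := fun j => (P j).1
    have hg : ∀ j, g j ∈ G r k (D : ℤ) := fun j => Groth.L22.SyzTilde.mem_G_cast.2 (P j).2
    let E : Fr (r := r) (k := k) one0 ≅ O' r k 0 :=
      ⟨pr one0 0, Sigma.ι (fun b : Fin 1 => Twist.twist 𝔓 (-one0 b)) 0,
        (Fin.sum_univ_one _).symm.trans (Groth.L22.SyzTilde.sum_pr_ι one0),
        Groth.L22.SyzTilde.ι_pr_self one0 0⟩
    have hmat : (matHom (deg := one0) (deg' := fun _ : Fin b => (D : ℤ)) (fun _ j => g j)
        (fun _ j => by simpa using hg j)) ≫ E.hom = h := by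
      refine Sigma.hom_ext _ _ fun j => ?_
      refine Eq.trans ?_ (hP j)
      rw [matHom]
      rw [Fin.sum_univ_one, Preadditive.sum_comp, Preadditive.comp_sum, Finset.sum_eq_single j]
      · simp only [Category.assoc]
        rw [Groth.L22.SyzTilde.ι_pr_self one0 0, Category.comp_id, ← Category.assoc]
        erw [Groth.L22.SyzTilde.ι_pr_self (fun _ : Fin b => (D : ℤ)) j, Category.id_comp]
        rfl
      · intro j' _ hj'
        simp only [Category.assoc]
        rw [← Category.assoc]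
        erw [Groth.L22.SyzTilde.ι_pr_ne (fun _ : Fin b => (D : ℤ)) (Ne.symm hj'), zero_comp]
      · simp
    let τ : (Coh.structureModule (PS r k)) ≅ (Coh.structureModule (PS r k)) := unitIso.symm ≪≫ E ≪≫ e0
    have hrow : rowHom (deg := fun _ : Fin b => (D : ℤ)) g hg ≫ τ.hom = π ≫ ClSub.idealModι I := by
      rw [hfac, ← hmat, rowHom]
      simp [τ]
    obtain ⟨e, he⟩ := exists_bound I D g hg fun x v => by
      have hτ : ∀ (f : (Coh.structureModule (PS r k)) ⟶ (Coh.structureModule (PS r k))) (c : (PS r k).presheaf.stalk x),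
          Groth.L21.RR.st f x (c • Groth.L21.RR.one (PS r k) x) =
            c • Groth.L21.RR.st f x (Groth.L21.RR.one (PS r k) x) := fun f c => map_smul _ _ _
      obtain ⟨u0, hu0⟩ := (Groth.L21.RR.bijective_smul_one (X := PS r k) x).2
        (Groth.L21.RR.st τ.hom x (Groth.L21.RR.one (PS r k) x))
      obtain ⟨u1, hu1⟩ := (Groth.L21.RR.bijective_smul_one (X := PS r k) x).2
        (Groth.L21.RR.st τ.inv x (Groth.L21.RR.one (PS r k) x))
      have stc : ∀ {A B C : (PS r k).Modules} (f : A ⟶ B) (f' : B ⟶ C) z,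
          Groth.L21.RR.st (f ≫ f') x z = Groth.L21.RR.st f' x (Groth.L21.RR.st f x z) := fun f f' z => by
        rw [← sst_eq, ← sst_eq, ← sst_eq, Groth.L22.SyzTilde.st_comp]
      have hπs : Function.Surjective (Groth.L21.RR.st π x) := fun z => by
        obtain ⟨y, hy⟩ := (Groth.L21.Mod.epi_iff_stalk_surjective π).1 hπ x z
        exact ⟨y, (sst_eq π x y).symm.trans hy⟩
      constructor
      · rintro ⟨z, rfl⟩
        obtain ⟨c, hc⟩ := (Groth.L21.RR.bijective_smul_one (X := PS r k) x).2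
          (Groth.L21.RR.st (rowHom (deg := fun _ : Fin b => (D : ℤ)) g hg) x z)
        refine ⟨u1 • Groth.L21.RR.st π x z, ?_⟩
        simp only at hc
        rw [map_smul, ← stc, ← hrow, stc]; erw [← hc]
        show u1 • Groth.L21.RR.st τ.hom x (c • Groth.L21.RR.one (PS r k) x) = c • Groth.L21.RR.one (PS r k) x
        rw [← map_smul, smul_comm, map_smul, show u1 • Groth.L21.RR.one (PS r k) x = _ from hu1, ← stc,
          Iso.inv_hom_id]
        congr 1
        rw [← sst_eq, Groth.L22.SyzTilde.st_id]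
      · rintro ⟨w, rfl⟩
        obtain ⟨z, rfl⟩ := hπs w
        obtain ⟨c, hc⟩ := (Groth.L21.RR.bijective_smul_one (X := PS r k) x).2
          (Groth.L21.RR.st (rowHom (deg := fun _ : Fin b => (D : ℤ)) g hg) x z)
        refine ⟨u0 • z, ?_⟩
        simp only at hc
        rw [map_smul, ← stc π, ← hrow, stc]; erw [← hc]
        show u0 • (c • Groth.L21.RR.one (PS r k) x) = Groth.L21.RR.st τ.hom x (c • Groth.L21.RR.one (PS r k) x)
        rw [map_smul, smul_comm]
        exact congrArg (c • ·) hu0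
    exact ⟨e, fun p _ m hm i hi _ => he p m hm i hi⟩

end Groth.L13.PowReg
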