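import Groth.Agent.L13.PowReg.Syzygy
import Groth.Agent.L22.SyzTilde.Chase
import Groth.Agent.L21.RR.PointPow

/-!
Exact complexes of sums of twists from homogeneous matrices, and stalks of images in the structure sheaf.
-/

set_option autoImplicit false
set_option backward.isDefEq.respectTransparency false
set_option backward.isDefEq.respectTransparency.types false
set_option linter.unusedSectionVars false

universe u

open CategoryTheory CategoryTheory.Limits AlgebraicGeometry TopologicalSpace Opposite DirectSum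

noncomputable section

namespace Groth.L13.PowReg

open Groth.L22.SyzTilde (S G PS Fr pr matHom theta evalT toLoc theta_matHom theta_injective theta_zero exists_theta_eq
  exists_common exists_fractionT evalT_mem evalT_injective mem_G_cast)

variable {k : Type u} [Field k] {r : ℕ}

local notation "𝔓" => CohB1.polyGrading r k

section Exact

variable {N N' N'' : ℕ} {deg : Fin N → ℤ} {deg' : Fin N' → ℤ} {deg'' : Fin N'' → ℤ}
  (A : Matrix (Fin N) (Fin N') (S r k)) (hA : ∀ a b, A a b ∈ G r k (deg' b - deg a))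
  (B : Matrix (Fin N') (Fin N'') (S r k)) (hB : ∀ a b, B a b ∈ G r k (deg'' b - deg' a))

local notation "sst" => Groth.L22.SyzTilde.st

include hA in
theorem matHom_value (x : ProjectiveSpectrum 𝔓) (z : (Groth.L21.Mod.stalkF (PS r k) x).obj (Fr deg')) {j : ℕ}
    (s : 𝔓 j) (hs : s.1 ∉ x.asHomogeneousIdeal) (g : Fin N' → S r k)
    (hg : ∀ a, theta deg' x z a = Localization.mk (g a) ⟨s.1, hs⟩) (a : Fin N) :
    theta deg x (sst x (matHom A hA) z) a = Localization.mk (Matrix.mulVecLin A g a) ⟨s.1, hs⟩ := by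
  rw [theta_matHom]
  simp only [hg, toLoc, Localization.mk_mul]
  have e : ∀ q : x.asHomogeneousIdeal.toIdeal.primeCompl,
      (⟨1, Groth.L16.ProjTwist.one_notMem _ x⟩ : x.asHomogeneousIdeal.toIdeal.primeCompl) * q = q :=
    fun q => Subtype.ext (one_mul _)
  simp only [e]
  rw [Groth.L22.SyzTilde.sum_mk_loc]
  rfl

include hA hB in
theorem matHom_exact (h : LinearMap.ker (Matrix.mulVecLin A) = LinearMap.range (Matrix.mulVecLin B)) :
    ∃ w : matHom B hB ≫ matHom A hA = (0 : Fr (r := r) (k := k) deg'' ⟶ Fr deg),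
      (ShortComplex.mk (matHom B hB) (matHom A hA) w).Exact := by
  classical
  have w : matHom B hB ≫ matHom A hA = (0 : Fr (r := r) (k := k) deg'' ⟶ Fr deg) := by
    refine Groth.L22.SyzTilde.eq_zero_of_stalks _ fun x z => theta_injective _ x (funext fun a => ?_)
    obtain ⟨j, s, hs, g, -, hg⟩ := exists_common deg'' x z
    rw [Groth.L22.SyzTilde.st_comp, matHom_value A hA x _ s hs (Matrix.mulVecLin B g)
      (matHom_value B hB x z s hs g hg) a, theta_zero,
      show Matrix.mulVecLin A (Matrix.mulVecLin B g) = 0 from LinearMap.mem_ker.1 (h ▸ LinearMap.mem_range_self _ g),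
      Pi.zero_apply, Localization.mk_zero]
  refine ⟨w, ?_⟩
  rw [Groth.L21.Mod.exact_iff_stalk]
  intro x
  rw [ShortComplex.ab_exact_iff]
  intro z hz
  change sst x (matHom A hA) z = 0 at hz
  obtain ⟨j, s, hs, g, hgdeg, hg⟩ := exists_common deg' x z
  have h0 : ∀ a, ∃ c : S r k, c ∉ x.asHomogeneousIdeal ∧ c * Matrix.mulVecLin A g a = 0 := fun a => by
    have h := matHom_value A hA x z s hs g hg a
    rw [hz, theta_zero, ← Localization.mk_zero ⟨s.1, hs⟩, Localization.mk_eq_mk_iff, Localization.r_iff_exists] at h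
    obtain ⟨⟨c, hcx⟩, hc⟩ := h
    simp only [mul_zero] at hc
    exact ⟨c * s.1, fun hh => (x.isPrime.mem_or_mem hh).elim hcx hs, by rw [mul_assoc]; exact hc.symm⟩
  choose c hcx hc using h0
  have hC : (∏ a, c a) ∉ x.asHomogeneousIdeal := fun hh => by
    obtain ⟨a, -, ha⟩ := x.isPrime.prod_mem_iff.1 hh
    exact hcx a ha
  have hdeg : ∀ a, Matrix.mulVecLin A g a ∈ G r k ((j : ℤ) - deg a) := fun a => by
    show (∑ b, A a b * g b) ∈ _
    refine sum_mem fun b _ => ?_
    have := SetLike.mul_mem_graded (hA a b) (hgdeg b)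
    rwa [show deg' b - deg a + ((j : ℤ) - deg' b) = (j : ℤ) - deg a by omega] at this
  obtain ⟨l, c', hc', hcx', hkill⟩ := Groth.L22.SyzTilde.exists_hom_kill (G r k) x.asHomogeneousIdeal.toIdeal hC
    (fun a => Matrix.mulVecLin A g a) (fun a => (j : ℤ) - deg a) hdeg (fun a => by
      rw [smul_eq_mul, ← Finset.prod_erase_mul Finset.univ c (Finset.mem_univ a), mul_assoc, hc a, mul_zero])
  rcases Groth.L22.SyzTilde.exists_nat_of_mem_G hc' with h0 | ⟨l, rfl, hcl⟩
  · exact absurd (h0 ▸ zero_mem x.asHomogeneousIdeal.toIdeal) hcx'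
  have hker : c' • g ∈ LinearMap.ker (Matrix.mulVecLin A) := by
    rw [LinearMap.mem_ker, map_smul]
    exact funext fun a => hkill a
  rw [h] at hker
  obtain ⟨v, hv⟩ := hker
  let v' : Fin N'' → S r k := fun b => decompose (G r k) (v b) (((l + j : ℕ) : ℤ) - deg'' b)
  have hv' : Matrix.mulVecLin B v' = c' • g := by
    funext a
    have hva : ∑ b, B a b * v b = c' * g a := congrFun hv a
    show ∑ b, B a b * v' b = c' * g a
    have hcg : c' * g a ∈ G r k (((l + j : ℕ) : ℤ) - deg' a) := by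
      have := SetLike.mul_mem_graded hc' (hgdeg a)
      rwa [show (l : ℤ) + ((j : ℤ) - deg' a) = ((l + j : ℕ) : ℤ) - deg' a by omega] at this
    rw [← decompose_of_mem_same (G r k) hcg, ← hva, decompose_sum, DFinsupp.finsetSum_apply, Submodule.coe_sum]
    refine Finset.sum_congr rfl fun b _ => ?_
    rw [show B a b * v b = B a b • v b from rfl, Groth.L22.SyzTilde.decompose_smul_left (G r k) (hB a b)]
    rw [show ((l + j : ℕ) : ℤ) - deg' a - (deg'' b - deg' a) = ((l + j : ℕ) : ℤ) - deg'' b by omega]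
    rfl
  have hcs : c' * s.1 ∉ x.asHomogeneousIdeal := fun hh => (x.isPrime.mem_or_mem hh).elim hcx' hs
  let t : 𝔓 (l + j) := ⟨c' * s.1, SetLike.mul_mem_graded hcl s.2⟩
  obtain ⟨z', hz'⟩ := exists_theta_eq deg'' x t hcs v' fun b => SetLike.coe_mem _
  refine ⟨z', theta_injective _ x (funext fun a => ?_)⟩
  change theta deg' x (sst x (matHom B hB) z') a = _
  rw [matHom_value B hB x z' t hcs v' hz' a, hg a, hv', Localization.mk_eq_mk_iff, Localization.r_iff_exists]
  refine ⟨1, ?_⟩
  simp only [OneMemClass.coe_one, one_mul, Pi.smul_apply, smul_eq_mul, t]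
  ring

end Exact

section Stalk

/-- Germs of functions as fractions. -/
def phi (x : ProjectiveSpectrum 𝔓) : (PS r k).presheaf.stalk x →+* Twist.Loc 𝔓 x :=
  (algebraMap (Twist.A0 𝔓 x) (Twist.Loc 𝔓 x)).comp
    (AlgebraicGeometry.stalkToFiberRingHom 𝔓 x).hom

theorem phi_germ (x : ProjectiveSpectrum 𝔓) (U : (PS r k).Opens) (hx : x ∈ U) (t : Γ(PS r k, U)) :
    phi x ((PS r k).presheaf.germ U x hx t) = (t.1 ⟨x, hx⟩).val := by
  rw [phi, RingHom.comp_apply]
  erw [AlgebraicGeometry.stalkToFiberRingHom_germ, HomogeneousLocalization.algebraMap_apply]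

theorem exists_phi_eq (x : ProjectiveSpectrum 𝔓) {j : ℕ} (c s : 𝔓 j) (hs : s.1 ∉ x.asHomogeneousIdeal) :
    ∃ t, phi x t = Localization.mk c.1 ⟨s.1, hs⟩ := by
  refine ⟨(AlgebraicGeometry.Proj.stalkIso' 𝔓 x).symm (HomogeneousLocalization.mk ⟨j, c, s, hs⟩), ?_⟩
  show ((AlgebraicGeometry.Proj.stalkIso' 𝔓 x) ((AlgebraicGeometry.Proj.stalkIso' 𝔓 x).symm _)).val = _
  rw [RingEquiv.apply_symm_apply, HomogeneousLocalization.val_mk]

theorem sst_eq {A B : (PS r k).Modules} (f : A ⟶ B) (x : ProjectiveSpectrum 𝔓)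
    (z : A.presheaf.stalk x) : Groth.L22.SyzTilde.st x f z = Groth.L21.RR.st f x z := by
  obtain ⟨U, hx, s, rfl⟩ := TopCat.Presheaf.exists_germ_eq (F := A.presheaf) (x := x) z
  rw [Groth.L21.RR.st_germ]
  exact Groth.L21.Mod.stalkF_map_germ f U x hx s

theorem evalT_smul (n : ℤ) (x : ProjectiveSpectrum 𝔓) (t : (PS r k).presheaf.stalk x)
    (z : (Twist.twist 𝔓 n).presheaf.stalk x) : evalT n x (t • z) = phi x t * evalT n x z := by
  obtain ⟨U, hxU, t, rfl⟩ := TopCat.Presheaf.exists_germ_eq (F := (PS r k).presheaf) (x := x) t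
  obtain ⟨V, hxV, z, rfl⟩ := TopCat.Presheaf.exists_germ_eq (F := (Twist.twist 𝔓 n).presheaf) (x := x) z
  rw [← TopCat.Presheaf.germ_res_apply (PS r k).presheaf (homOfLE (inf_le_left : U ⊓ V ≤ U)) x ⟨hxU, hxV⟩ t,
    ← TopCat.Presheaf.germ_res_apply (Twist.twist 𝔓 n).presheaf (homOfLE (inf_le_right : U ⊓ V ≤ V)) x ⟨hxU, hxV⟩ z,
    ← Groth.L20.ModStalk.germ_smul, phi_germ]
  erw [Groth.L22.SyzTilde.evalT_germ, Groth.L22.SyzTilde.evalT_germ]
  exact Twist.coe_smul_val n x _ _

variable {N : ℕ}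

theorem theta_smul (deg : Fin N → ℤ) (x : ProjectiveSpectrum 𝔓) (t : (PS r k).presheaf.stalk x)
    (z : (Fr (r := r) (k := k) deg).presheaf.stalk x) (a : Fin N) :
    theta deg x (t • z) a = phi x t * theta deg x z a := by
  rw [theta, theta, sst_eq, sst_eq, map_smul]
  exact evalT_smul _ x t _

/-- The degree of the unit level. -/
abbrev one0 : Fin 1 → ℤ := fun _ => 0

theorem exists_gen (x : ProjectiveSpectrum 𝔓) :
    ∃ q : (Fr (r := r) (k := k) one0).presheaf.stalk x,
      theta one0 x q 0 = 1 ∧ ∀ z, ∃ t : (PS r k).presheaf.stalk x, z = t • q := by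
  obtain ⟨q, hq⟩ := exists_theta_eq (one0) x (⟨1, SetLike.GradedOne.one_mem⟩ : 𝔓 0)
    (Groth.L16.ProjTwist.one_notMem _ x) (fun _ => (1 : S r k))
    (fun _ => by simpa using (SetLike.GradedOne.one_mem (A := G r k)))
  have h1 : theta one0 x q 0 = 1 := (hq 0).trans (Localization.mk_self (⟨1, _⟩ : x.asHomogeneousIdeal.toIdeal.primeCompl))
  refine ⟨q, h1, fun z => ?_⟩
  obtain ⟨j, s, hs, g, hgd, hg⟩ := exists_common one0 x z
  have hg0 : g 0 ∈ 𝔓 j := mem_G_cast.1 (by simpa using hgd 0)
  obtain ⟨t, ht⟩ := exists_phi_eq x ⟨g 0, hg0⟩ s hs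
  refine ⟨t, theta_injective _ x (funext fun a => ?_)⟩
  obtain rfl : a = 0 := Subsingleton.elim _ _
  rw [hg, theta_smul, h1, mul_one, ht]

theorem phi_injective (x : ProjectiveSpectrum 𝔓) : Function.Injective (phi (r := r) (k := k) x) :=
  (HomogeneousLocalization.val_injective _).comp (AlgebraicGeometry.Proj.stalkIso' 𝔓 x).injective

/-- `Fr (0) ≅ O`. -/
theorem nonempty_unit_iso : Nonempty (Fr (r := r) (k := k) one0 ≅ Coh.structureModule (PS r k)) := by
  obtain ⟨e⟩ := Groth.L16.ProjTwist.nonempty_twist_zero_iso 𝔓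
  refine ⟨⟨pr one0 0, Sigma.ι (fun b : Fin 1 => Twist.twist 𝔓 (-one0 b)) 0, ?_,
    Groth.L22.SyzTilde.ι_pr_self one0 0⟩ ≪≫ e⟩
  exact (Fin.sum_univ_one _).symm.trans (Groth.L22.SyzTilde.sum_pr_ι one0)

/-- `Fr (0) ≅ O`. -/
def unitIso : Fr (r := r) (k := k) one0 ≅ Coh.structureModule (PS r k) := nonempty_unit_iso.some

variable {s : ℕ} (D : ℕ) (g : Fin s → S r k) {deg : Fin N → ℤ} (row : Fin N → S r k)
  (hrow : ∀ b, row b ∈ G r k (deg b))

/-- The map to `O` given by a row of forms. -/
def rowHom : Fr (r := r) (k := k) deg ⟶ Coh.structureModule (PS r k) :=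
  matHom (deg := one0) (fun _ b => row b) (fun _ b => by simpa using hrow b) ≫ unitIso.hom

theorem range_rowHom (p : ℕ) (hdeg : ∀ b, deg b = D * (p : ℤ))
    (hrange : Set.range row = {f | ∃ β : Fin s →₀ ℕ, β.degree = p ∧ (β.prod fun i n => g i ^ n) = f})
    (x : ProjectiveSpectrum 𝔓) {a : Fin (r + 1)} (hl : MvPolynomial.X a ∉ x.asHomogeneousIdeal)
    (γ : Fin s → (PS r k).presheaf.stalk x)
    (hγ : ∀ i, phi x (γ i) = Localization.mk (g i)
      (⟨MvPolynomial.X a ^ D, fun h => hl (x.isPrime.mem_of_pow_mem D h)⟩ :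
        x.asHomogeneousIdeal.toIdeal.primeCompl))
    (v : (Coh.structureModule (PS r k)).presheaf.stalk x) :
    (∃ z, Groth.L21.RR.st (rowHom row hrow) x z = v) ↔
      ∃ t ∈ Ideal.span (Set.range γ) ^ p, t • Groth.L21.RR.one (PS r k) x = v := by
  classical
  obtain ⟨q, hq1, hqgen⟩ := exists_gen x
  let c : (Coh.structureModule (PS r k)).presheaf.stalk x := Groth.L21.RR.st (unitIso (r := r) (k := k)).hom x q
  obtain ⟨c₀, hc₀⟩ := (Groth.L21.RR.bijective_smul_one (X := PS r k) x).2 c
  have hu : IsUnit c₀ := by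
    have hsurj : Function.Surjective (Groth.L21.RR.st (unitIso (r := r) (k := k)).hom x) := fun w => by
      refine ⟨Groth.L21.RR.st (unitIso (r := r) (k := k)).inv x w, ?_⟩
      rw [← sst_eq, ← sst_eq, ← Groth.L22.SyzTilde.st_comp, Iso.inv_hom_id, Groth.L22.SyzTilde.st_id]
    obtain ⟨z, hz⟩ := hsurj (Groth.L21.RR.one (PS r k) x)
    obtain ⟨t, rfl⟩ := hqgen z
    refine IsUnit.of_mul_eq_one t ((Groth.L21.RR.bijective_smul_one (X := PS r k) x).1 ?_)
    show (c₀ * t) • Groth.L21.RR.one (PS r k) x = (1 : (PS r k).presheaf.stalk x) • Groth.L21.RR.one (PS r k) x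
    rw [one_smul, mul_comm, mul_smul]
    refine Eq.trans (congrArg (t • ·) hc₀) ?_
    exact (map_smul _ t q).symm.trans hz
  let T : (Fr (r := r) (k := k) deg).presheaf.stalk x → Twist.Loc 𝔓 x :=
    fun z => ∑ b, toLoc x (row b) * theta deg x z b
  have hT : ∀ z t, phi x t = T z →
      Groth.L21.RR.st (rowHom row hrow) x z = (t * c₀) • Groth.L21.RR.one (PS r k) x := by
    intro z t h
    rw [rowHom, ← sst_eq, Groth.L22.SyzTilde.st_comp]
    have e : Groth.L22.SyzTilde.st x
        (matHom (deg := one0) (fun _ b => row b) (fun _ b => by simpa using hrow b)) z = t • q := by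
      refine theta_injective _ x (funext fun a' => ?_)
      obtain rfl : a' = 0 := Subsingleton.elim _ _
      rw [theta_matHom, theta_smul, hq1, mul_one, h]
    rw [e, sst_eq, map_smul, mul_smul]
    exact congrArg (t • ·) hc₀.symm
  let Lm : x.asHomogeneousIdeal.toIdeal.primeCompl := ⟨MvPolynomial.X a ^ D, fun h => hl (x.isPrime.mem_of_pow_mem _ h)⟩
  have hprod : ∀ β : Fin s →₀ ℕ, β.degree = p →
      phi x (β.prod fun i n => γ i ^ n) =
        toLoc x (β.prod fun i n => g i ^ n) * (Localization.mk 1 Lm) ^ p := by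
    intro β hβ
    rw [map_finsuppProd]
    simp only [map_pow, hγ]
    rw [← hβ]
    clear hβ
    induction β using Finsupp.induction with
    | zero => simp [toLoc]
    | single_add i n f hi _ ih =>
      rw [Finsupp.prod_add_index' (fun i => pow_zero _) (fun i => pow_add _), ih,
        Finsupp.prod_add_index' (fun i => pow_zero _) (fun i => pow_add _),
        Finsupp.prod_single_index (h := fun i n => (Localization.mk (g i) Lm : Twist.Loc 𝔓 x) ^ n) (pow_zero _),
        Finsupp.prod_single_index (h := fun i n => g i ^ n) (pow_zero _), map_add, Finsupp.degree_single, pow_add]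
      have e1 : (Localization.mk (g i) Lm : Twist.Loc 𝔓 x) = toLoc x (g i) * Localization.mk 1 Lm := by
        rw [toLoc, Localization.mk_mul, mul_one]
        congr 1
        exact Subtype.ext (one_mul _).symm
      have e2 : ∀ P Q : S r k, toLoc x (P * Q) = toLoc x P * toLoc x Q := fun P Q => by
        rw [toLoc, toLoc, toLoc, Localization.mk_mul]
        congr 1
        exact Subtype.ext (one_mul _).symm
      have e3 : ∀ (P : S r k) (m : ℕ), toLoc x (P ^ m) = toLoc x P ^ m := fun P m => by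
        induction m with
        | zero => rw [pow_zero, pow_zero]; exact Localization.mk_self (⟨1, _⟩ : x.asHomogeneousIdeal.toIdeal.primeCompl)
        | succ m ih => rw [pow_succ, pow_succ, e2, ih]
      rw [e1, mul_pow, e2, e3]
      ring
  constructor
  · rintro ⟨z, rfl⟩
    obtain ⟨j, σ, hσ, h, hhd, hh⟩ := exists_common deg x z
    have hb : ∀ b, ∃ t ∈ Ideal.span (Set.range γ) ^ p, phi x t = toLoc x (row b) * theta deg x z b := by
      intro b
      obtain ⟨β, hβ, hβr⟩ : row b ∈ {f | ∃ β : Fin s →₀ ℕ, β.degree = p ∧ (β.prod fun i n => g i ^ n) = f} :=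
        hrange ▸ Set.mem_range_self b
      have hmem : h b * (MvPolynomial.X a ^ D) ^ p ∈ 𝔓 j := by
        refine mem_G_cast.1 ?_
        have h1 : (MvPolynomial.X a ^ D : S r k) ^ p ∈ G r k ((D * p : ℕ) : ℤ) := by
          rw [← pow_mul]
          have := SetLike.pow_mem_graded (D * p) (Groth.L16.ProjSpace.X_mem r k a)
          rw [smul_eq_mul, mul_one] at this
          exact mem_G_cast.2 this
        have := SetLike.mul_mem_graded (hhd b) h1
        rwa [hdeg b, show (j : ℤ) - D * (p : ℤ) + ((D * p : ℕ) : ℤ) = j by push_cast; ring] at this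
      obtain ⟨ρ, hρ⟩ := exists_phi_eq x ⟨_, hmem⟩ σ hσ
      refine ⟨(β.prod fun i n => γ i ^ n) * ρ, Ideal.mul_mem_right _ _ ?_, ?_⟩
      · rw [Ideal.mem_span_pow_iff_exists_isHomogeneous]
        exact ⟨MvPolynomial.monomial β 1, MvPolynomial.isHomogeneous_monomial _ hβ, by simp [MvPolynomial.eval_monomial]⟩
      · rw [map_mul, hprod β hβ, hρ, hh b, hβr, Localization.mk_pow, mul_assoc, Localization.mk_mul, one_pow, one_mul]
        congr 1
        rw [Localization.mk_eq_mk_iff, Localization.r_iff_exists]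
        refine ⟨1, ?_⟩
        simp only [OneMemClass.coe_one, one_mul, Submonoid.coe_mul, SubmonoidClass.coe_pow, Lm]
        ring
    choose t ht hte using hb
    exact ⟨(∑ b, t b) * c₀, Ideal.mul_mem_right _ _ (sum_mem fun b _ => ht b),
      (hT z _ (by simp only [map_sum, hte, T])).symm⟩
  · rintro ⟨t, ht, rfl⟩
    have key : Ideal.span (Set.range γ) ^ p ≤
        { carrier := {t | ∃ z, phi x t = T z}
          add_mem' := by
            rintro t t' ⟨z, hz⟩ ⟨z', hz'⟩
            refine ⟨z + z', ?_⟩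
            rw [map_add, hz, hz']
            simp only [T, theta, map_add, mul_add, Finset.sum_add_distrib]
          zero_mem' := ⟨0, by simp [T, theta_zero]⟩
          smul_mem' := by
            rintro a' t ⟨z, hz⟩
            refine ⟨a' • z, ?_⟩
            rw [smul_eq_mul, map_mul, hz]
            simp only [T, theta_smul, Finset.mul_sum]
            exact Finset.sum_congr rfl fun b _ => by ring } := by
      intro t ht
      obtain ⟨F, hF, rfl⟩ := (Ideal.mem_span_pow_iff_exists_isHomogeneous γ t).1 ht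
      rw [F.as_sum, map_sum]
      refine Submodule.sum_mem _ fun β hβ => ?_
      rw [MvPolynomial.eval_monomial]
      refine Ideal.mul_mem_left _ _ ?_
      have hβ' : β.degree = p := (MvPolynomial.IsHomogeneous.degree_eq_sum_deg_support hF hβ) |>.symm
      obtain ⟨b, hb⟩ : (β.prod fun i n => g i ^ n) ∈ Set.range row := by
        rw [hrange]; exact ⟨β, hβ', rfl⟩
      obtain ⟨z, hz⟩ := exists_theta_eq deg x
        (⟨(MvPolynomial.X a ^ D) ^ p, by
          rw [← pow_mul]
          have := SetLike.pow_mem_graded (D * p) (Groth.L16.ProjSpace.X_mem r k a)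
          rwa [smul_eq_mul, mul_one] at this⟩ : 𝔓 (D * p))
        (fun h => hl (x.isPrime.mem_of_pow_mem _ (x.isPrime.mem_of_pow_mem _ h)))
        (fun b' => if b' = b then 1 else 0) (fun b' => by
          split
          · rw [hdeg b', show ((D * p : ℕ) : ℤ) - D * (p : ℤ) = 0 by push_cast; ring]
            exact SetLike.GradedOne.one_mem
          · exact zero_mem _)
      refine ⟨z, ?_⟩
      simp only [T]
      rw [hprod β hβ', Finset.sum_eq_single b, hz, if_pos rfl, hb, Localization.mk_pow, one_pow]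
      · rfl
      · intro b' _ hne
        rw [hz, if_neg hne, Localization.mk_zero, mul_zero]
      · simp
    obtain ⟨u, rfl⟩ := hu
    obtain ⟨z, hz⟩ := key (Ideal.mul_mem_right (↑u⁻¹ : (PS r k).presheaf.stalk x) _ ht)
    refine ⟨z, (hT z _ hz).trans ?_⟩
    rw [mul_assoc, Units.inv_mul, mul_one]

end Stalk

end Groth.L13.PowReg
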