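import Groth.Agent.L22.SyzTilde.Alg
import Mathlib.RingTheory.MvPolynomial.Homogeneous
import Mathlib.RingTheory.Polynomial.Basic
import Mathlib.RingTheory.Finiteness.Lattice

/-!
# Bihomogeneous syzygies of the Rees algebra of homogeneous forms

For forms `g₁, …, g_s` of degree `d` in `S = k[x₀, …, x_r]`, the powers of the ideal they generate
have free resolutions whose degrees in each step are bounded by `d p + const`.
-/

set_option autoImplicit false
set_option linter.unusedSectionVars false

universe u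

open MvPolynomial DirectSum
open Groth.L22.SyzTilde (S G)

noncomputable section

namespace Groth.L13.PowReg

variable {k : Type u} [Field k] {r s : ℕ} (d : ℕ)

/-- Polynomials in `y₁, …, y_s` over `S`. -/
abbrev T (r : ℕ) (k : Type u) [Field k] (s : ℕ) : Type u := MvPolynomial (Fin s) (S r k)

/-- Bidegree `(a, j)`, where the `y`'s have degree `(d, 1)`. -/
def BH (a j : ℤ) (q : T r k s) : Prop :=
  ∀ β : Fin s →₀ ℕ, ((β.degree : ℤ) ≠ j → coeff β q = 0) ∧ coeff β q ∈ G r k (a - d * (β.degree : ℤ))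

/-- The component of bidegree `(a, j)`. -/
def π (a j : ℤ) (q : T r k s) : T r k s :=
  ∑ β ∈ q.support with ((β.degree : ℤ) = j),
    monomial β (decompose (G r k) (coeff β q) (a - d * (β.degree : ℤ)) : S r k)

theorem coeff_π (a j : ℤ) (q : T r k s) (β : Fin s →₀ ℕ) :
    coeff β (π d a j q) =
      if (β.degree : ℤ) = j then (decompose (G r k) (coeff β q) (a - d * (β.degree : ℤ)) : S r k) else 0 := by
  classical
  rw [π, coeff_sum]
  simp only [coeff_monomial, Finset.sum_ite_eq', Finset.mem_filter]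
  by_cases hj : (β.degree : ℤ) = j
  · by_cases hβ : β ∈ q.support
    · rw [if_pos ⟨hβ, hj⟩, if_pos hj]
    · rw [if_neg (fun h => hβ h.1), if_pos hj, notMem_support_iff.1 hβ, decompose_zero, DirectSum.zero_apply,
        Submodule.coe_zero]
  · rw [if_neg (fun h => hj h.2), if_neg hj]

theorem bh_π (a j : ℤ) (q : T r k s) : BH d a j (π d a j q) := fun β => by
  constructor
  · intro h
    rw [coeff_π, if_neg h]
  · rw [coeff_π]
    split
    · exact SetLike.coe_mem _
    · exact zero_mem _

theorem π_mul {a0 j0 : ℤ} {m : T r k s} (hm : BH d a0 j0 m) (a j : ℤ) (q : T r k s) :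
    π d (a0 + a) (j0 + j) (m * q) = m * π d a j q := by
  classical
  ext β : 1
  rw [coeff_π, coeff_mul, coeff_mul]
  have key : ∀ x ∈ Finset.HasAntidiagonal.antidiagonal β,
      coeff x.1 m * coeff x.2 (π d a j q) =
        if (β.degree : ℤ) = j0 + j then
          (decompose (G r k) (coeff x.1 m * coeff x.2 q) (a0 + a - d * (β.degree : ℤ)) : S r k) else 0 := by
    intro x hx
    rw [Finset.mem_antidiagonal] at hx
    have hdeg : (β.degree : ℤ) = (x.1.degree : ℤ) + (x.2.degree : ℤ) := by
      rw [← hx, map_add]; push_cast; rfl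
    by_cases h1 : (x.1.degree : ℤ) = j0
    · rw [coeff_π]
      by_cases hj : (β.degree : ℤ) = j0 + j
      · rw [if_pos (by omega), if_pos hj]
        have := Groth.L22.SyzTilde.decompose_smul_left (G r k) (hm x.1).2 (coeff x.2 q)
          (a0 + a - d * (β.degree : ℤ))
        rw [smul_eq_mul, smul_eq_mul] at this
        rw [this, show a0 + a - d * (β.degree : ℤ) - (a0 - d * (x.1.degree : ℤ)) = a - d * (x.2.degree : ℤ) by
          rw [hdeg]; ring]
      · rw [if_neg (by omega), if_neg hj, mul_zero]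
    · rw [(hm x.1).1 h1, zero_mul, zero_mul, decompose_zero, DirectSum.zero_apply, Submodule.coe_zero, ite_self]
  rw [Finset.sum_congr rfl key]
  split
  · rw [decompose_sum, DFinsupp.finset_sum_apply, Submodule.coe_sum]
  · rw [Finset.sum_const_zero]

theorem π_zero (a j : ℤ) : π d a j (0 : T r k s) = 0 := by
  simp [π]

theorem π_add (a j : ℤ) (p q : T r k s) : π d a j (p + q) = π d a j p + π d a j q := by
  ext β : 1
  simp only [coeff_add, coeff_π]
  split <;> simp [decompose_add, coeff_add]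

theorem π_sum {ι : Type*} (t : Finset ι) (a j : ℤ) (f : ι → T r k s) :
    π d a j (∑ i ∈ t, f i) = ∑ i ∈ t, π d a j (f i) :=
  map_sum ({ toFun := π d a j, map_zero' := π_zero d a j, map_add' := π_add d a j } : T r k s →+ T r k s) f t

theorem π_eq_self {a j : ℤ} {q : T r k s} (hq : BH d a j q) : π d a j q = q := by
  ext β : 1
  rw [coeff_π]
  split
  · exact decompose_of_mem_same _ (hq β).2
  · rename_i h
    exact ((hq β).1 h).symm

theorem bh_mul {a a' j j' : ℤ} {p q : T r k s} (hp : BH d a j p) (hq : BH d a' j' q) :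
    BH d (a + a') (j + j') (p * q) := by
  have := π_mul d hp a' j' q
  rw [π_eq_self d hq] at this
  rw [← this]
  exact bh_π d _ _ _

open scoped Classical in
/-- The pieces meeting `q`. -/
def degs (q : T r k s) : Finset (ℤ × ℤ) :=
  q.support.biUnion fun β => (decompose (G r k) (coeff β q)).support.image
    fun i => (i + d * (β.degree : ℤ), (β.degree : ℤ))

theorem sum_π (q : T r k s) {t : Finset (ℤ × ℤ)} (ht : degs d q ⊆ t) : ∑ x ∈ t, π d x.1 x.2 q = q := by
  classical
  ext β : 1
  rw [coeff_sum]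
  simp only [coeff_π]
  conv_rhs => rw [← DirectSum.sum_support_decompose (G r k) (coeff β q)]
  symm
  refine Finset.sum_bij_ne_zero (fun i _ _ => (i + d * (β.degree : ℤ), (β.degree : ℤ)))
    (fun i hi _ => ht ?_) (fun i _ _ i' _ _ h => by simpa using h) ?_ ?_
  · refine Finset.mem_biUnion.2 ⟨β, ?_, Finset.mem_image.2 ⟨i, hi, rfl⟩⟩
    rw [mem_support_iff]
    intro h
    rw [h, decompose_zero] at hi
    simp at hi
  · intro x _ hx
    by_cases h : (β.degree : ℤ) = x.2
    · rw [if_pos h] at hx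
      refine ⟨x.1 - d * (β.degree : ℤ), DFinsupp.mem_support_toFun _ _ |>.2 ?_, hx, ?_⟩
      · intro h0
        exact hx (by rw [h0]; rfl)
      · ext <;> simp [h]
    · rw [if_neg h] at hx
      exact absurd rfl hx
  · intro i _ _
    rw [if_pos rfl, add_sub_cancel_right]

/-- A free module over `T` with bidegrees of its basis. -/
structure Lvl : Type where
  /-- The rank. -/
  N : ℕ
  /-- The first degree. -/
  xd : Fin N → ℤ
  /-- The second degree. -/
  pd : Fin N → ℤ

variable {d}

/-- A bihomogeneous matrix between levels. -/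
structure Step (r : ℕ) (k : Type u) [Field k] (s d : ℕ) : Type u where
  /-- The source. -/
  src : Lvl
  /-- The target. -/
  tgt : Lvl
  /-- The matrix. -/
  M : Matrix (Fin tgt.N) (Fin src.N) (T r k s)
  bh : ∀ a b, BH d (src.xd b - tgt.xd a) (src.pd b - tgt.pd a) (M a b)

/-- A submodule of a free `T`-module is bihomogeneous. -/
def IsBH (d : ℕ) (L : Lvl) (K : Submodule (T r k s) (Fin L.N → T r k s)) : Prop :=
  ∀ (A P : ℤ) w, w ∈ K → (fun b => π d (A - L.xd b) (P - L.pd b) (w b)) ∈ K

theorem exists_step (L : Lvl) (K : Submodule (T r k s) (Fin L.N → T r k s)) (hK : IsBH d L K) :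
    ∃ (L' : Lvl) (M : Matrix (Fin L.N) (Fin L'.N) (T r k s)),
      (∀ a b, BH d (L'.xd b - L.xd a) (L'.pd b - L.pd a) (M a b)) ∧
      LinearMap.range (Matrix.mulVecLin M) = K := by
  classical
  let H : Set (Fin L.N → T r k s) := {w | w ∈ K ∧ ∃ A P : ℤ, ∀ b, BH d (A - L.xd b) (P - L.pd b) (w b)}
  have hspan : Submodule.span (T r k s) H = K := by
    refine le_antisymm (Submodule.span_le.2 fun w hw => hw.1) fun w hw => ?_
    let t : Finset (ℤ × ℤ) := Finset.univ.biUnion fun b : Fin L.N =>
      (degs d (w b)).image fun x => (x.1 + L.xd b, x.2 + L.pd b)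
    have e : w = ∑ x ∈ t, fun b => π d (x.1 - L.xd b) (x.2 - L.pd b) (w b) := by
      funext b
      rw [Finset.sum_apply]
      symm
      let f : ℤ × ℤ ↪ ℤ × ℤ := ⟨fun x => (x.1 - L.xd b, x.2 - L.pd b), fun x y h => by
        simp only [Prod.mk.injEq] at h
        ext <;> omega⟩
      refine (Finset.sum_map t f fun x => π d x.1 x.2 (w b)).symm.trans (sum_π d _ fun y hy => ?_)
      refine Finset.mem_map.2 ⟨(y.1 + L.xd b, y.2 + L.pd b),
        Finset.mem_biUnion.2 ⟨b, Finset.mem_univ _, Finset.mem_image.2 ⟨y, hy, rfl⟩⟩, ?_⟩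
      ext <;> simp [f]
    rw [e]
    exact Submodule.sum_mem _ fun x _ =>
      Submodule.subset_span ⟨hK x.1 x.2 w hw, x.1, x.2, fun b => bh_π d _ _ _⟩
  have hfg : (Submodule.span (T r k s) H).FG := IsNoetherian.noetherian _
  obtain ⟨t, htH, ht⟩ := (Submodule.fg_span_iff_fg_span_finset_subset H).1 hfg
  let e := t.equivFin.symm
  have hmem : ∀ i, (e i : Fin L.N → T r k s) ∈ H := fun i => htH (e i).2
  choose A P hAP using fun i => (hmem i).2
  refine ⟨⟨t.card, A, P⟩, fun a i => (e i : Fin L.N → T r k s) a, fun a i => hAP i a, ?_⟩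
  rw [Matrix.range_mulVecLin]
  refine (congrArg (Submodule.span (T r k s)) ?_).trans (ht.symm.trans hspan)
  ext w
  constructor
  · rintro ⟨i, rfl⟩
    exact (e i).2
  · intro hw
    exact ⟨e.symm ⟨w, hw⟩, by funext a; simp [Matrix.col]⟩

theorem Step.isBH_ker (m : Step r k s d) : IsBH d m.src (LinearMap.ker (Matrix.mulVecLin m.M)) := by
  intro A P w hw
  rw [LinearMap.mem_ker] at hw ⊢
  funext a
  have h := congrFun hw a
  show ∑ b, m.M a b * π d (A - m.src.xd b) (P - m.src.pd b) (w b) = 0
  calc ∑ b, m.M a b * π d (A - m.src.xd b) (P - m.src.pd b) (w b)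
      = ∑ b, π d (A - m.tgt.xd a) (P - m.tgt.pd a) (m.M a b * w b) := Finset.sum_congr rfl fun b _ => by
        rw [← π_mul d (m.bh a b) (A - m.src.xd b) (P - m.src.pd b) (w b)]
        congr 1 <;> ring
    _ = π d (A - m.tgt.xd a) (P - m.tgt.pd a) (∑ b, m.M a b * w b) := (π_sum d _ _ _ _).symm
    _ = 0 := by rw [show ∑ b, m.M a b * w b = 0 from h, π_zero]

theorem Step.exists_next (m : Step r k s d) :
    ∃ (L' : Lvl) (M : Matrix (Fin m.src.N) (Fin L'.N) (T r k s)),
      (∀ a b, BH d (L'.xd b - m.src.xd a) (L'.pd b - m.src.pd a) (M a b)) ∧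
      LinearMap.range (Matrix.mulVecLin M) = LinearMap.ker (Matrix.mulVecLin m.M) :=
  exists_step m.src _ m.isBH_ker

/-- The exponents of a given degree. -/
abbrev Mon (s : ℕ) (j : ℤ) : Type := {β : Fin s →₀ ℕ // (β.degree : ℤ) = j}

instance (s : ℕ) (j : ℤ) : Finite (Mon s j) := by
  refine Finite.of_injective (β := Fin s → Fin (j.toNat + 1)) (fun β i => ⟨β.1 i, ?_⟩) ?_
  · have h1 : β.1 i ≤ β.1.degree := Finsupp.le_degree i β.1
    have h2 := β.2
    omega
  · intro β γ h
    refine Subtype.ext (Finsupp.ext fun i => ?_)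
    exact congrArg Fin.val (congrFun h i)

instance (s : ℕ) (j : ℤ) : Fintype (Mon s j) := Fintype.ofFinite _

/-- The basis of the `p`-th piece of a level. -/
abbrev Idx (s : ℕ) (L : Lvl) (p : ℕ) : Type := Σ b : Fin L.N, Mon s ((p : ℤ) - L.pd b)

/-- Its degrees. -/
def Idx.deg (d : ℕ) {s : ℕ} {L : Lvl} {p : ℕ} (x : Idx s L p) : ℤ := L.xd x.1 + d * (x.2.1.degree : ℤ)

theorem Idx.deg_le (d : ℕ) {s : ℕ} {L : Lvl} {p : ℕ} (x : Idx s L p) :
    x.deg d ≤ d * (p : ℤ) + ((Finset.univ.sup fun b => (L.xd b - d * L.pd b).toNat : ℕ) : ℤ) := by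
  have h := x.2.2
  have h' : (L.xd x.1 - d * L.pd x.1).toNat ≤ Finset.univ.sup fun b => (L.xd b - d * L.pd b).toNat :=
    Finset.le_sup (f := fun b => (L.xd b - d * L.pd b).toNat) (Finset.mem_univ x.1)
  have h'' := Int.self_le_toNat (L.xd x.1 - d * L.pd x.1)
  rw [Idx.deg, h, mul_sub]
  omega

theorem coeff_mul_slice {a0 j0 : ℤ} {m : T r k s} (hm : BH d a0 j0 m) (u : T r k s) {α : Fin s →₀ ℕ} {j : ℤ}
    (hα : (α.degree : ℤ) = j0 + j) :
    coeff α (m * u) = ∑ β : Mon s j, coeff α (monomial β.1 1 * m) * coeff β.1 u := by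
  classical
  have h1 : coeff α (m * u) = ∑ β ∈ u.support, coeff α (monomial β 1 * m) * coeff β u := by
    conv_lhs => rw [u.as_sum, Finset.mul_sum, coeff_sum]
    refine Finset.sum_congr rfl fun β _ => ?_
    rw [mul_comm m, show (monomial β (coeff β u) : T r k s) = C (coeff β u) * monomial β 1 by
      rw [C_mul_monomial, mul_one], mul_assoc, coeff_C_mul, mul_comm]
  rw [h1]
  refine Finset.sum_bij_ne_zero (fun β hβ hne => ⟨β, ?_⟩) (fun _ _ _ => Finset.mem_univ _)
    (fun _ _ _ _ _ _ h => congrArg Subtype.val h) (fun β _ hne => ⟨β.1, ?_, hne, rfl⟩) (fun _ _ _ => rfl)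
  · rw [coeff_monomial_mul'] at hne
    by_cases hle : β ≤ α
    · rw [if_pos hle, one_mul] at hne
      have h2 : ((α - β).degree : ℤ) = j0 := by
        by_contra h
        exact hne (by rw [(hm _).1 h, zero_mul])
      have h3 : (α - β).degree + β.degree = α.degree := by rw [← map_add, tsub_add_cancel_of_le hle]
      omega
    · rw [if_neg hle, zero_mul] at hne
      exact absurd rfl hne
  · rw [mem_support_iff]
    intro h
    exact hne (by rw [h, mul_zero])

/-- The matrix on the `p`-th pieces. -/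
def Step.slice (m : Step r k s d) (p : ℕ) : Matrix (Idx s m.tgt p) (Idx s m.src p) (S r k) :=
  fun x y => coeff x.2.1 (monomial y.2.1 1 * m.M x.1 y.1)

theorem Step.slice_mem (m : Step r k s d) (p : ℕ) (x : Idx s m.tgt p) (y : Idx s m.src p) :
    m.slice p x y ∈ G r k (y.deg d - x.deg d) := by
  classical
  rw [Step.slice, coeff_monomial_mul']
  split
  · rename_i hle
    rw [one_mul]
    have h := ((m.bh x.1 y.1) (x.2.1 - y.2.1)).2
    have h3 : (((x.2.1 - y.2.1).degree : ℕ) : ℤ) + (y.2.1.degree : ℤ) = (x.2.1.degree : ℤ) := by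
      rw [← Nat.cast_add, ← map_add, tsub_add_cancel_of_le hle]
    rwa [show m.src.xd y.1 - m.tgt.xd x.1 - d * (((x.2.1 - y.2.1).degree : ℕ) : ℤ) = y.deg d - x.deg d by
      rw [Idx.deg, Idx.deg, ← h3]; ring] at h
  · exact zero_mem _

theorem Step.coeff_mulVec (m : Step r k s d) (p : ℕ) (u : Fin m.src.N → T r k s) (x : Idx s m.tgt p) :
    coeff x.2.1 (Matrix.mulVecLin m.M u x.1) =
      ∑ y : Idx s m.src p, m.slice p x y * coeff y.2.1 (u y.1) := by
  rw [show Matrix.mulVecLin m.M u x.1 = ∑ b, m.M x.1 b * u b from rfl, coeff_sum, Fintype.sum_sigma]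
  refine Finset.sum_congr rfl fun b _ => coeff_mul_slice (m.bh x.1 b) (u b) ?_
  rw [x.2.2]
  ring

/-- An element of the `p`-th piece as a vector over `T`. -/
def toW {L : Lvl} {p : ℕ} (v : Idx s L p → S r k) (b : Fin L.N) : T r k s :=
  ∑ β : Mon s ((p : ℤ) - L.pd b), monomial β.1 (v ⟨b, β⟩)

theorem coeff_toW {L : Lvl} {p : ℕ} (v : Idx s L p → S r k) (x : Idx s L p) :
    coeff x.2.1 (toW v x.1) = v x := by
  classical
  rw [toW, coeff_sum, Finset.sum_eq_single x.2]
  · rw [coeff_monomial, if_pos rfl]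
  · intro β _ h
    rw [coeff_monomial, if_neg fun e => h (Subtype.ext e)]
  · simp

theorem coeff_toW_ne {L : Lvl} {p : ℕ} (v : Idx s L p → S r k) (b : Fin L.N) {α : Fin s →₀ ℕ}
    (h : (α.degree : ℤ) ≠ (p : ℤ) - L.pd b) : coeff α (toW v b) = 0 := by
  classical
  rw [toW, coeff_sum]
  refine Finset.sum_eq_zero fun β _ => ?_
  rw [coeff_monomial, if_neg]
  rintro rfl
  exact h β.2

theorem Step.mulVec_toW (m : Step r k s d) (p : ℕ) (v : Idx s m.src p → S r k) :
    Matrix.mulVecLin m.M (toW v) = toW (Matrix.mulVecLin (m.slice p) v) := by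
  funext a
  ext α : 1
  by_cases h : (α.degree : ℤ) = (p : ℤ) - m.tgt.pd a
  · refine (m.coeff_mulVec p (toW v) ⟨a, ⟨α, h⟩⟩).trans ?_
    refine Eq.trans ?_ (coeff_toW (Matrix.mulVecLin (m.slice p) v) ⟨a, ⟨α, h⟩⟩).symm
    exact Finset.sum_congr rfl fun y _ => by rw [coeff_toW]
  · rw [coeff_toW_ne _ _ h, show Matrix.mulVecLin m.M (toW v) a = ∑ b, m.M a b * toW v b from rfl, coeff_sum]
    refine Finset.sum_eq_zero fun b _ => ?_
    classical
    rw [coeff_mul]
    refine Finset.sum_eq_zero fun z hz => ?_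
    rw [Finset.mem_antidiagonal] at hz
    by_cases h1 : (z.1.degree : ℤ) = m.src.pd b - m.tgt.pd a
    · rw [coeff_toW_ne, mul_zero]
      intro h2
      refine h ?_
      rw [← hz, map_add]
      push_cast
      omega
    · rw [((m.bh a b) z.1).1 h1, zero_mul]

variable (g : Fin s → S r k)

/-- `y_i ↦ g_i t`. -/
def ev : T r k s →+* MvPolynomial (Fin 1) (S r k) :=
  eval₂Hom C fun i => C (g i) * X 0

theorem prod_CX (β : Fin s →₀ ℕ) :
    (β.prod fun i n => (C (g i) * X 0 : MvPolynomial (Fin 1) (S r k)) ^ n) =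
      monomial (Finsupp.single 0 β.degree) (β.prod fun i n => g i ^ n) := by
  classical
  induction β using Finsupp.induction with
  | zero => simp
  | single_add i n f hi _ ih =>
    rw [Finsupp.prod_add_index' (fun i => pow_zero _) (fun i => pow_add _), ih,
      Finsupp.prod_add_index' (fun i => pow_zero _) (fun i => pow_add _),
      Finsupp.prod_single_index (h := fun i n => (C (g i) * X 0 : MvPolynomial (Fin 1) (S r k)) ^ n) (pow_zero _),
      Finsupp.prod_single_index (h := fun i n => g i ^ n) (pow_zero _), mul_pow, ← map_pow, X_pow_eq_monomial,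
      C_mul_monomial, monomial_mul, mul_one, map_add, Finsupp.degree_single, Finsupp.single_add]

theorem ev_monomial (β : Fin s →₀ ℕ) (c : S r k) :
    ev g (monomial β c) = monomial (Finsupp.single 0 β.degree) (c * β.prod fun i n => g i ^ n) := by
  rw [ev, eval₂Hom_monomial, prod_CX, C_mul_monomial]

variable {g}

theorem prod_mem (hg : ∀ i, g i ∈ G r k (d : ℤ)) (β : Fin s →₀ ℕ) :
    (β.prod fun i n => g i ^ n) ∈ G r k (d * (β.degree : ℤ)) := by
  classical
  induction β using Finsupp.induction with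
  | zero => simpa using SetLike.GradedOne.one_mem (A := G r k)
  | single_add i n f hi _ ih =>
    rw [Finsupp.prod_add_index' (fun i => pow_zero _) (fun i => pow_add _), Finsupp.prod_single_index (h := fun i n => g i ^ n) (pow_zero _)]
    have h1 : g i ^ n ∈ G r k (d * (n : ℤ)) := by
      have := SetLike.pow_mem_graded n (hg i)
      rwa [show n • (d : ℤ) = d * (n : ℤ) by rw [nsmul_eq_mul, mul_comm]] at this
    have := SetLike.mul_mem_graded h1 ih
    rwa [← mul_add, show (n : ℤ) + (f.degree : ℤ) = (((Finsupp.single i n + f).degree : ℕ) : ℤ) by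
      rw [map_add, Finsupp.degree_single]; push_cast; rfl] at this

theorem ev_π (hg : ∀ i, g i ∈ G r k (d : ℤ)) (a j : ℤ) (q : T r k s) :
    ev g (π d a j q) =
      ∑ γ ∈ (ev g q).support with ((γ.degree : ℤ) = j),
        monomial γ (decompose (G r k) (coeff γ (ev g q)) a : S r k) := by
  classical
  let P : MvPolynomial (Fin 1) (S r k) → MvPolynomial (Fin 1) (S r k) := fun f =>
    ∑ γ ∈ f.support with ((γ.degree : ℤ) = j), monomial γ (decompose (G r k) (coeff γ f) a : S r k)
  have cP : ∀ f γ, coeff γ (P f) =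
      if (γ.degree : ℤ) = j then (decompose (G r k) (coeff γ f) a : S r k) else 0 := by
    intro f γ
    simp only [P, coeff_sum, coeff_monomial, Finset.sum_ite_eq', Finset.mem_filter]
    by_cases hj : (γ.degree : ℤ) = j
    · by_cases hγ : γ ∈ f.support
      · rw [if_pos ⟨hγ, hj⟩, if_pos hj]
      · rw [if_neg (fun h => hγ h.1), if_pos hj, notMem_support_iff.1 hγ, decompose_zero, DirectSum.zero_apply,
          Submodule.coe_zero]
    · rw [if_neg (fun h => hj h.2), if_neg hj]
  show ev g (π d a j q) = P (ev g q)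
  induction q using MvPolynomial.induction_on' with
  | monomial β c =>
    ext γ : 1
    rw [cP]
    have e : π d a j (monomial β c) =
        if (β.degree : ℤ) = j then monomial β (decompose (G r k) c (a - d * (β.degree : ℤ)) : S r k) else 0 := by
      ext α : 1
      rw [coeff_π]
      by_cases hαβ : β = α
      · subst hαβ
        rw [coeff_monomial, if_pos rfl]
        split <;> simp
      · rw [coeff_monomial, if_neg hαβ, decompose_zero, DirectSum.zero_apply, Submodule.coe_zero, ite_self]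
        split <;> simp [coeff_monomial, hαβ]
    rw [e, ev_monomial]
    have key := Groth.L22.SyzTilde.decompose_smul_right (G r k) (prod_mem hg β) c a
    simp only [smul_eq_mul] at key
    by_cases hγ : Finsupp.single (0 : Fin 1) β.degree = γ
    · subst hγ
      rw [coeff_monomial, if_pos rfl, Finsupp.degree_single]
      split
      · rw [ev_monomial, coeff_monomial, if_pos rfl, key]
      · rw [map_zero, coeff_zero]
    · rw [coeff_monomial, if_neg hγ, decompose_zero, DirectSum.zero_apply, Submodule.coe_zero, ite_self]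
      split
      · rw [ev_monomial, coeff_monomial, if_neg hγ]
      · rw [map_zero, coeff_zero]
  | add p q hp hq =>
    rw [π_add, map_add, hp, hq, map_add]
    ext γ : 1
    simp only [coeff_add, cP]
    split <;> simp [decompose_add, coeff_add]

/-- The first level. -/
def L0 : Lvl := ⟨1, fun _ => 0, fun _ => 0⟩

/-- The relations. -/
def K0 (g : Fin s → S r k) : Submodule (T r k s) (Fin L0.N → T r k s) :=
  Submodule.comap (LinearMap.proj (0 : Fin 1)) (RingHom.ker (ev g) : Submodule (T r k s) (T r k s))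

theorem mem_K0 {w : Fin L0.N → T r k s} : w ∈ K0 g ↔ ev g (w (0 : Fin 1)) = 0 := Iff.rfl

theorem isBH_K0 (hg : ∀ i, g i ∈ G r k (d : ℤ)) : IsBH d L0 (K0 g) := by
  intro A P w hw
  rw [mem_K0] at hw ⊢
  rw [ev_π hg, hw]
  simp

/-- Reindexed slices. -/
def ee (L : Lvl) (p : ℕ) : Idx s L p ≃ Fin (Fintype.card (Idx s L p)) := Fintype.equivFin _

theorem ker_submatrix {ι ι' κ κ' R : Type*} [CommRing R] [Fintype κ] [Fintype κ'] (A : Matrix ι κ R)
    (e : ι' ≃ ι) (f : κ' ≃ κ) (v : κ' → R) :
    Matrix.mulVec (A.submatrix e f) v = (Matrix.mulVec A (v ∘ f.symm)) ∘ e := by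
  rw [← Matrix.submatrix_mulVec_equiv]

/-- Powers of the ideal generated by forms of degree `d` have resolutions with linearly bounded degrees. -/
theorem exists_family (d : ℕ) (g : Fin s → S r k) (hg : ∀ i, g i ∈ G r k (d : ℤ)) :
    ∃ e : ℤ, ∀ p : ℕ, ∃ (rk : ℕ → ℕ) (deg : ∀ i, Fin (rk i) → ℤ) (row : Fin (rk 0) → S r k)
      (D : ∀ i, Matrix (Fin (rk i)) (Fin (rk (i + 1))) (S r k)),
      (∀ b, row b ∈ G r k (deg 0 b)) ∧
      (∀ i a b, D i a b ∈ G r k (deg (i + 1) b - deg i a)) ∧
      (∀ v, ∑ b, row b * v b = 0 ↔ v ∈ LinearMap.range (Matrix.mulVecLin (D 0))) ∧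
      (∀ i, LinearMap.ker (Matrix.mulVecLin (D i)) = LinearMap.range (Matrix.mulVecLin (D (i + 1)))) ∧
      (∀ b, deg 0 b = d * (p : ℤ)) ∧
      Set.range row = {f | ∃ β : Fin s →₀ ℕ, β.degree = p ∧ (β.prod fun i n => g i ^ n) = f} ∧
      ∀ i, i ≤ r + 1 → ∀ b, deg i b ≤ d * (p : ℤ) + e := by
  classical
  obtain ⟨L1, M0, hM0, hR0⟩ := exists_step L0 (K0 g) (isBH_K0 hg)
  choose nxtL nxtM nxtBH nxtR using fun m : Step r k s d => m.exists_next
  let m0 : Step r k s d := ⟨L1, L0, M0, hM0⟩
  let nxt : Step r k s d → Step r k s d := fun m => ⟨nxtL m, m.src, nxtM m, nxtBH m⟩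
  let seq : ℕ → Step r k s d := fun i => Nat.rec m0 (fun _ m => nxt m) i
  let bd : Lvl → ℤ := fun L => ((Finset.univ.sup fun b => (L.xd b - d * L.pd b).toNat : ℕ) : ℤ)
  refine ⟨∑ i ∈ Finset.range (r + 2), bd (seq i).tgt, fun p => ?_⟩
  let E : ∀ i, Idx s (seq i).tgt p ≃ Fin (Fintype.card (Idx s (seq i).tgt p)) := fun i => ee _ p
  let rowF : Idx s (seq 0).tgt p → S r k := fun x => x.2.1.prod fun i n => g i ^ n
  have hdeg0 : ∀ x : Idx s L0 p, x.deg d = d * (p : ℤ) := fun x => by
    have := x.2.2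
    simp only [Idx.deg, L0, sub_zero] at this ⊢
    rw [this, zero_add]
  have hW : ∀ v : Idx s L0 p → S r k,
      toW v ∈ K0 g ↔ ∑ x : Idx s L0 p, (x.2.1.prod fun i n => g i ^ n) * v x = 0 := by
    intro v
    rw [mem_K0, toW, map_sum]
    have : ∀ β : Mon s ((p : ℤ) - L0.pd (0 : Fin 1)),
        ev g (monomial β.1 (v ⟨(0 : Fin 1), β⟩)) =
          monomial (Finsupp.single 0 p) ((β.1.prod fun i n => g i ^ n) * v ⟨(0 : Fin 1), β⟩) := by
      intro β
      have h := β.2
      simp only [L0, sub_zero] at h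
      rw [ev_monomial, Nat.cast_inj.1 h, mul_comm]
    rw [Finset.sum_congr rfl fun β _ => this β, ← map_sum, monomial_eq_zero, Fintype.sum_sigma]
    exact Iff.of_eq (congrArg (· = (0 : S r k)) (Fin.sum_univ_one (fun b : Fin 1 => ∑ β : Mon s ((p : ℤ) - L0.pd b), (β.1.prod fun i n => g i ^ n) * v ⟨b, β⟩)).symm)
  have exact1 : ∀ i (v : Idx s (seq i).src p → S r k),
      Matrix.mulVecLin ((seq i).slice p) v = 0 ↔ ∃ u, Matrix.mulVecLin ((seq (i + 1)).slice p) u = v := by
    intro i v
    constructor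
    · intro h
      have hk : toW v ∈ LinearMap.ker (Matrix.mulVecLin (seq i).M) := by
        rw [LinearMap.mem_ker, (seq i).mulVec_toW, h]
        funext a
        simp [toW]
      rw [← nxtR (seq i)] at hk
      obtain ⟨u, hu⟩ := hk
      refine ⟨fun y => coeff y.2.1 (u y.1), funext fun x => ?_⟩
      refine ((seq (i + 1)).coeff_mulVec p u x).symm.trans ?_
      rw [show Matrix.mulVecLin (seq (i + 1)).M u = toW v from hu]
      exact coeff_toW v x
    · rintro ⟨u, rfl⟩
      have hk : toW (Matrix.mulVecLin ((seq (i + 1)).slice p) u) ∈ LinearMap.ker (Matrix.mulVecLin (seq i).M) := by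
        rw [← nxtR (seq i), ← (seq (i + 1)).mulVec_toW]
        exact LinearMap.mem_range_self _ _
      rw [LinearMap.mem_ker, (seq i).mulVec_toW] at hk
      funext x
      rw [← coeff_toW (Matrix.mulVecLin ((seq i).slice p) _) x, hk]
      simp
  have exact0 : ∀ v : Idx s L0 p → S r k,
      (∑ x : Idx s L0 p, (x.2.1.prod fun i n => g i ^ n) * v x = 0) ↔
        ∃ u, Matrix.mulVecLin ((seq 0).slice p) u = v := by
    intro v
    rw [← hW]
    constructor
    · intro hk
      rw [← hR0] at hk
      obtain ⟨u, hu⟩ := hk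
      refine ⟨fun y => coeff y.2.1 (u y.1), funext fun x => ?_⟩
      refine ((seq 0).coeff_mulVec p u x).symm.trans ?_
      rw [show Matrix.mulVecLin (seq 0).M u = toW v from hu]
      exact coeff_toW v x
    · rintro ⟨u, rfl⟩
      rw [← hR0]
      exact ⟨toW u, (seq 0).mulVec_toW p u⟩
  refine ⟨fun i => Fintype.card (Idx s (seq i).tgt p), fun i b => ((E i).symm b).deg d,
    fun b => rowF ((E 0).symm b), fun i => ((seq i).slice p).submatrix (E i).symm (E (i + 1)).symm,
    ?_, fun i a b => (seq i).slice_mem p _ _, ?_, ?_, fun b => hdeg0 _, ?_, ?_⟩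
  · intro b
    exact prod_mem hg _ |> (fun h => by
      rwa [show d * ((((E 0).symm b).2.1.degree : ℕ) : ℤ) = ((E 0).symm b).deg d from (zero_add _).symm] at h)
  · intro v
    rw [LinearMap.mem_range]
    refine Iff.trans ?_ ((exact0 (v ∘ E 0)).trans ?_)
    · refine Iff.of_eq (congrArg (· = (0 : S r k)) ?_)
      exact Fintype.sum_equiv (E 0).symm _ _ fun b => by simp [rowF]
    · constructor
      · rintro ⟨u, hu⟩
        refine ⟨u ∘ (E 1).symm, ?_⟩
        rw [Matrix.mulVecLin_apply, ker_submatrix]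
        funext b
        have := congrFun hu ((E 0).symm b)
        simp only [Function.comp_apply, Equiv.apply_symm_apply] at this ⊢
        rw [← this]
        simp [Function.comp_def]
      · rintro ⟨u, hu⟩
        refine ⟨u ∘ E 1, ?_⟩
        funext x
        have := congrFun hu (E 0 x)
        rw [Matrix.mulVecLin_apply, ker_submatrix] at this
        simp only [Function.comp_apply, Equiv.symm_apply_apply] at this ⊢
        rw [← this]
        rfl
  · intro i
    ext v
    rw [LinearMap.mem_ker, LinearMap.mem_range, Matrix.mulVecLin_apply, ker_submatrix]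
    constructor
    · intro h
      have h' : Matrix.mulVecLin ((seq i).slice p) (v ∘ E (i + 1)) = 0 := by
        funext x
        have := congrFun h (E i x)
        simpa [Function.comp_def] using this
      obtain ⟨u, hu⟩ := (exact1 i _).1 h'
      refine ⟨u ∘ (E (i + 1 + 1)).symm, ?_⟩
      rw [Matrix.mulVecLin_apply, ker_submatrix]
      funext b
      have := congrFun hu ((E (i + 1)).symm b)
      simpa [Function.comp_def] using this
    · rintro ⟨u, rfl⟩
      have h' := (exact1 i (Matrix.mulVecLin ((seq (i + 1)).slice p) (u ∘ E (i + 1 + 1)))).2 ⟨_, rfl⟩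
      funext b
      have := congrFun h' ((E i).symm b)
      simp only [Function.comp_apply, Pi.zero_apply, Matrix.mulVecLin_apply, ker_submatrix,
        Equiv.symm_symm] at this ⊢
      refine Eq.trans ?_ this
      congr 2
      funext y
      simp [Function.comp_def]
  · ext f
    constructor
    · rintro ⟨b, rfl⟩
      refine ⟨((E 0).symm b).2.1, ?_, rfl⟩
      have := ((E 0).symm b).2.2
      exact Nat.cast_inj.1 (this.trans (sub_zero _))
    · rintro ⟨β, hβ, rfl⟩
      refine ⟨E 0 ⟨(0 : Fin 1), ⟨β, by rw [hβ]; exact (sub_zero _).symm⟩⟩, ?_⟩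
      simp [rowF]
  · intro i hi b
    refine (Idx.deg_le d _).trans (add_le_add le_rfl ?_)
    exact Finset.single_le_sum (f := fun j => bd (seq j).tgt) (fun j _ => Int.natCast_nonneg _)
      (Finset.mem_range.2 (by omega : i < r + 2))

end Groth.L13.PowReg
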